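import Cfsg.Agent.TAB.F24C.Rep

/-!
# `Fi₂₄` : the numbers of transpositions fixed by the representatives (helper39, TAB)
-/

set_option autoImplicit false
set_option maxRecDepth 100000
set_option Elab.async false

namespace Cfsg.Agent.TAB.F24C

open Cfsg.Agent.Lib.PermNet Cfsg.Agent.TAB.PE
open Cfsg.Agent.Fischer.Fi24Rep (rho)
open Cfsg.Agent.H123.Cls (fB fB_eq)
open Cfsg.Agent.H52.ThreeFi24 (q3)

namespace Fx

/-- the check -/
noncomputable def fxB (t : ℕ) : Bool := Nat.beq (fixN cx (ap (yc.getD t 0) (ye.getD t 0))) (piT.getD t 0)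

theorem fxB_spec {t : ℕ} (h : fxB t = true) : fixc cx rho (q3 (Y t)) = piT.getD t 0 := by
  rw [q3_Y, ← fixN_spec ok.toOk0 (acts _ _)]
  exact Nat.eq_of_beq_eq_true h

/-- `U` contains the fixed points -/
def Sup (x : Spor.Fi24) (U : ℕ) : Prop := ∀ p, cx.Om.testBit p = true → rho x p = p → U.testBit p = true

/-- remove the points which are moved out of one of the first `n` planes -/
noncomputable def rem (aq : ℕ → ℕ) (n : ℕ) : ℕ :=
  Nat.rec (motive := fun _ => ℕ) cx.Om (fun b U => fB U fun U => fB (plane 19 b) fun P =>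
    Nat.xor U (Nat.land U (Nat.xor P (aq P)))) n

theorem sup_rem {x : Spor.Fi24} {aq : ℕ → ℕ} (hx : Acts rho aq x) : ∀ n, Sup x (rem aq n)
  | 0 => fun _ h _ => h
  | n + 1 => fun p h1 h2 => by
    have e : rem aq (n + 1) = Nat.xor (rem aq n) (Nat.land (rem aq n) (Nat.xor (plane 19 n) (aq (plane 19 n)))) := by
      show (fB (rem aq n) fun U => fB (plane 19 n) fun P => Nat.xor U (Nat.land U (Nat.xor P (aq P)))) = _
      rw [fB_eq, fB_eq]
    rw [e, testBit_diff, sup_rem hx n p h1 h2]
    change (true && !((plane 19 n) ^^^ aq (plane 19 n)).testBit p) = true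
    rw [Nat.testBit_xor, hx, h2, Bool.xor_self]
    rfl

/-- intersect with the images under powers of the root -/
noncomputable def cut (c : ℕ) (l : List ℕ) : ℕ → ℕ :=
  List.rec (motive := fun _ => ℕ → ℕ) (fun U => U) (fun d _ ih U => fB (Nat.land U (ap c d U)) ih) l

theorem sup_cut (c e : ℕ) : ∀ (l : List ℕ) (U : ℕ), Sup (el c ^ e) U → Sup (el c ^ e) (cut c l U)
  | [], _, h => h
  | d :: l, U, h => by
    have e1 : cut c (d :: l) U = cut c l (Nat.land U (ap c d U)) := fB_eq _ _
    rw [e1]
    refine sup_cut c e l _ fun p h1 h2 => ?_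
    change (U &&& ap c d U).testBit p = true
    rw [Nat.testBit_and, h p h1 h2, acts c d, h _ ((ok.om _ p).trans h1) (by
      rw [← Equiv.Perm.mul_apply, ← map_mul, ← pow_add, add_comm, pow_add, map_mul, Equiv.Perm.mul_apply, h2])]
    rfl

/-- the check for fixed point free elements -/
noncomputable def fx0 (t n : ℕ) (l : List ℕ) : Bool :=
  fB (rem (ap (yc.getD t 0) (ye.getD t 0)) n) fun U => Nat.beq (cut (yc.getD t 0) l U) 0

theorem fx0_spec {t n : ℕ} {l : List ℕ} (h : fx0 t n l = true) : fixc cx rho (q3 (Y t)) = 0 := by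
  rw [fx0, fB_eq] at h
  have h1 := sup_cut _ _ l _ (sup_rem (acts (yc.getD t 0) (ye.getD t 0)) n)
  rw [Nat.eq_of_beq_eq_true h] at h1
  rw [q3_Y, fixc]
  refine (congrArg Set.ncard (Set.eq_empty_iff_forall_notMem.2 fun p hp => ?_)).trans (Set.ncard_empty _)
  have h2 := h1 p hp.1 hp.2
  rw [Nat.zero_testBit] at h2
  exact Bool.false_ne_true h2

theorem f0 : fxB 0 = true := by decide +kernel
theorem f1 : fxB 1 = true := by decide +kernel
theorem f2 : fxB 2 = true := by decide +kernel
theorem f3 : fxB 3 = true := by decide +kernel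
theorem f4 : fxB 4 = true := by decide +kernel
theorem f5 : fxB 5 = true := by decide +kernel
theorem f6 : fxB 6 = true := by decide +kernel
theorem f7 : fx0 7 5 [1, 2, 4] = true := by decide +kernel
theorem f8 : fxB 8 = true := by decide +kernel
theorem f9 : fxB 9 = true := by decide +kernel
theorem f10 : fxB 10 = true := by decide +kernel
theorem f11 : fxB 11 = true := by decide +kernel
theorem f12 : fxB 12 = true := by decide +kernel
theorem f13 : fxB 13 = true := by decide +kernel
theorem f14 : fxB 14 = true := by decide +kernel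
theorem f15 : fxB 15 = true := by decide +kernel
theorem f16 : fxB 16 = true := by decide +kernel
theorem f17 : fxB 17 = true := by decide +kernel
theorem f18 : fxB 18 = true := by decide +kernel
theorem f19 : fxB 19 = true := by decide +kernel
theorem f20 : fxB 20 = true := by decide +kernel
theorem f21 : fxB 21 = true := by decide +kernel
theorem f23 : fxB 23 = true := by decide +kernel
theorem f24 : fx0 24 6 [1, 2, 4] = true := by decide +kernel
theorem f25 : fxB 25 = true := by decide +kernel
theorem f26 : fxB 26 = true := by decide +kernel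
theorem f27 : fxB 27 = true := by decide +kernel
theorem f28 : fxB 28 = true := by decide +kernel
theorem f29 : fxB 29 = true := by decide +kernel
theorem f30 : fxB 30 = true := by decide +kernel
theorem f31 : fxB 31 = true := by decide +kernel
theorem f32 : fxB 32 = true := by decide +kernel
theorem f33 : fx0 33 6 [1, 2, 3] = true := by decide +kernel
theorem f34 : fxB 34 = true := by decide +kernel
theorem f35 : fxB 35 = true := by decide +kernel
theorem f36 : fxB 36 = true := by decide +kernel
theorem f37 : fxB 37 = true := by decide +kernel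
theorem f38 : fxB 38 = true := by decide +kernel
theorem f39 : fxB 39 = true := by decide +kernel
theorem f40 : fxB 40 = true := by decide +kernel
theorem f41 : fxB 41 = true := by decide +kernel
theorem f42 : fxB 42 = true := by decide +kernel
theorem f43 : fxB 43 = true := by decide +kernel
theorem f44 : fxB 44 = true := by decide +kernel
theorem f45 : fxB 45 = true := by decide +kernel
theorem f46 : fxB 46 = true := by decide +kernel
theorem f47 : fxB 47 = true := by decide +kernel
theorem f49 : fxB 49 = true := by decide +kernel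
theorem f50 : fxB 50 = true := by decide +kernel
theorem f52 : fxB 52 = true := by decide +kernel
theorem f53 : fxB 53 = true := by decide +kernel
theorem f55 : fxB 55 = true := by decide +kernel
theorem f56 : fxB 56 = true := by decide +kernel
theorem f57 : fxB 57 = true := by decide +kernel
theorem f58 : fxB 58 = true := by decide +kernel
theorem f59 : fxB 59 = true := by decide +kernel
theorem f60 : fxB 60 = true := by decide +kernel
theorem f61 : fxB 61 = true := by decide +kernel
theorem f62 : fxB 62 = true := by decide +kernel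
theorem f64 : fxB 64 = true := by decide +kernel
theorem f66 : fxB 66 = true := by decide +kernel
theorem f69 : fxB 69 = true := by decide +kernel
theorem f70 : fxB 70 = true := by decide +kernel
theorem f71 : fxB 71 = true := by decide +kernel
theorem f72 : fxB 72 = true := by decide +kernel
theorem f73 : fxB 73 = true := by decide +kernel
theorem f76 : fxB 76 = true := by decide +kernel
theorem f77 : fxB 77 = true := by decide +kernel
theorem f79 : fxB 79 = true := by decide +kernel
theorem f81 : fxB 81 = true := by decide +kernel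
theorem f82 : fxB 82 = true := by decide +kernel
theorem f84 : fxB 84 = true := by decide +kernel
theorem f85 : fxB 85 = true := by decide +kernel
theorem f86 : fxB 86 = true := by decide +kernel
theorem f88 : fxB 88 = true := by decide +kernel
theorem f90 : fxB 90 = true := by decide +kernel
theorem f93 : fxB 93 = true := by decide +kernel

end Fx

open Fx in
/-- **the numbers of fixed transpositions** -/
theorem fixY : ∀ t < 94, piT.getD t 0 ≠ 0 ∨ t ∈ [7, 24, 27, 33] → fixc cx rho (q3 (Y t)) = piT.getD t 0
  | 0, _, _ => fxB_spec f0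
  | 1, _, _ => fxB_spec f1
  | 2, _, _ => fxB_spec f2
  | 3, _, _ => fxB_spec f3
  | 4, _, _ => fxB_spec f4
  | 5, _, _ => fxB_spec f5
  | 6, _, _ => fxB_spec f6
  | 7, _, _ => fx0_spec f7
  | 8, _, _ => fxB_spec f8
  | 9, _, _ => fxB_spec f9
  | 10, _, _ => fxB_spec f10
  | 11, _, _ => fxB_spec f11
  | 12, _, _ => fxB_spec f12
  | 13, _, _ => fxB_spec f13
  | 14, _, _ => fxB_spec f14
  | 15, _, _ => fxB_spec f15
  | 16, _, _ => fxB_spec f16
  | 17, _, _ => fxB_spec f17
  | 18, _, _ => fxB_spec f18
  | 19, _, _ => fxB_spec f19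
  | 20, _, _ => fxB_spec f20
  | 21, _, _ => fxB_spec f21
  | 22, _, h => absurd h (by decide)
  | 23, _, _ => fxB_spec f23
  | 24, _, _ => fx0_spec f24
  | 25, _, _ => fxB_spec f25
  | 26, _, _ => fxB_spec f26
  | 27, _, _ => fxB_spec f27
  | 28, _, _ => fxB_spec f28
  | 29, _, _ => fxB_spec f29
  | 30, _, _ => fxB_spec f30
  | 31, _, _ => fxB_spec f31
  | 32, _, _ => fxB_spec f32
  | 33, _, _ => fx0_spec f33
  | 34, _, _ => fxB_spec f34
  | 35, _, _ => fxB_spec f35
  | 36, _, _ => fxB_spec f36
  | 37, _, _ => fxB_spec f37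
  | 38, _, _ => fxB_spec f38
  | 39, _, _ => fxB_spec f39
  | 40, _, _ => fxB_spec f40
  | 41, _, _ => fxB_spec f41
  | 42, _, _ => fxB_spec f42
  | 43, _, _ => fxB_spec f43
  | 44, _, _ => fxB_spec f44
  | 45, _, _ => fxB_spec f45
  | 46, _, _ => fxB_spec f46
  | 47, _, _ => fxB_spec f47
  | 48, _, h => absurd h (by decide)
  | 49, _, _ => fxB_spec f49
  | 50, _, _ => fxB_spec f50
  | 51, _, h => absurd h (by decide)
  | 52, _, _ => fxB_spec f52
  | 53, _, _ => fxB_spec f53
  | 54, _, h => absurd h (by decide)
  | 55, _, _ => fxB_spec f55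
  | 56, _, _ => fxB_spec f56
  | 57, _, _ => fxB_spec f57
  | 58, _, _ => fxB_spec f58
  | 59, _, _ => fxB_spec f59
  | 60, _, _ => fxB_spec f60
  | 61, _, _ => fxB_spec f61
  | 62, _, _ => fxB_spec f62
  | 63, _, h => absurd h (by decide)
  | 64, _, _ => fxB_spec f64
  | 65, _, h => absurd h (by decide)
  | 66, _, _ => fxB_spec f66
  | 67, _, h => absurd h (by decide)
  | 68, _, h => absurd h (by decide)
  | 69, _, _ => fxB_spec f69
  | 70, _, _ => fxB_spec f70
  | 71, _, _ => fxB_spec f71
  | 72, _, _ => fxB_spec f72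
  | 73, _, _ => fxB_spec f73
  | 74, _, h => absurd h (by decide)
  | 75, _, h => absurd h (by decide)
  | 76, _, _ => fxB_spec f76
  | 77, _, _ => fxB_spec f77
  | 78, _, h => absurd h (by decide)
  | 79, _, _ => fxB_spec f79
  | 80, _, h => absurd h (by decide)
  | 81, _, _ => fxB_spec f81
  | 82, _, _ => fxB_spec f82
  | 83, _, h => absurd h (by decide)
  | 84, _, _ => fxB_spec f84
  | 85, _, _ => fxB_spec f85
  | 86, _, _ => fxB_spec f86
  | 87, _, h => absurd h (by decide)
  | 88, _, _ => fxB_spec f88
  | 89, _, h => absurd h (by decide)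
  | 90, _, _ => fxB_spec f90
  | 91, _, h => absurd h (by decide)
  | 92, _, h => absurd h (by decide)
  | 93, _, _ => fxB_spec f93
  | n + 94, h, _ => absurd h (by omega)

end Cfsg.Agent.TAB.F24C
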