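import Cfsg.Agent.TAB.F24C.Mdl

/-!
# `3.Fi₂₄` : the central element as a network (helper39, TAB)

`Pr` : the action of the cover lies over the action of `Fi24`; `acts_z` : the action of `z` on masks.
-/

set_option autoImplicit false
set_option maxRecDepth 100000
set_option Elab.async false

namespace Cfsg.Agent.TAB.F24C.Fx

open Cfsg.Agent.Lib.PermNet Cfsg.Agent.TAB.PE
open Cfsg.Agent.Fischer.Fi24RepDef (nw wok)
open Cfsg.Agent.Fischer.Fi24RepLib (pl testBit_pl)
open Cfsg.Agent.Fischer.Fi24Rep (rho gen word rho_word)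
open Cfsg.Agent.Fischer.Fi24RepOrb (UG)
open Cfsg.Agent.Fischer.TriNet (tri)
open Cfsg.Agent.Fischer.TriDef (T okT)
open Cfsg.Agent.H123.Cls (fB fB_eq)
open Cfsg.Agent.R08.TThree (P3 z17)
open Cfsg.Agent.H52.ThreeFi24 (q3 q3_of y)
open Cfsg.Spor

theorem testBit_tri {m : ℕ} (hm : ∀ i, 327680 ≤ i → m.testBit i = false) {p : ℕ} (hp : p < 983040) :
    (tri m).testBit p = m.testBit (p % 327680) := by
  change (m ||| (m <<< 327680 ||| m <<< 655360)).testBit p = _
  rw [Nat.testBit_or, Nat.testBit_or, Nat.testBit_shiftLeft, Nat.testBit_shiftLeft]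
  by_cases h1 : p < 327680
  · rw [Nat.mod_eq_of_lt h1, decide_eq_false (by omega), decide_eq_false (by omega)]
    simp
  by_cases h2 : p < 655360
  · rw [hm p (by omega), decide_eq_true (by omega), decide_eq_false (by omega), show p % 327680 = p - 327680 by omega]
    simp
  · rw [hm p (by omega), hm (p - 327680) (by omega), decide_eq_true (show p ≥ 655360 by omega),
      show p % 327680 = p - 655360 by omega]
    simp

/-- `σ` lies over `τ` -/
def Pr (σ τ : Equiv.Perm ℕ) : Prop := ∀ p < 983040, σ p % 327680 = τ (p % 327680)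

/-- the check -/
noncomputable def chkP (w3 w : List Net) : Bool :=
  (List.range 19).all fun b => fB (pl 19 327680 b) fun P => Nat.beq (apw w3 (tri P)) (tri (apw w P))

theorem pl_high' (k N b i : ℕ) (hi : N ≤ i) : (pl k N b).testBit i = false := by
  change (plane k b &&& (2 ^ N - 1)).testBit i = _
  rw [Nat.testBit_and, Nat.testBit_two_pow_sub_one, decide_eq_false (by omega), Bool.and_false]

theorem pl_high (b i : ℕ) (hi : 327680 ≤ i) : (pl 19 327680 b).testBit i = false := pl_high' _ _ _ _ hi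

theorem pr_of_chk {w3 w : List Net} (h3 : WOk 983040 w3) (h : WOk 327680 w) (hc : chkP w3 w = true) :
    Pr (wperm w3) (wperm w) := by
  intro p hp
  have h1 := wperm_lt h3 hp
  have h2 := wperm_lt h (Nat.mod_lt p (by norm_num))
  have h4 := Nat.mod_lt (wperm w3 p) (show 0 < 327680 by norm_num)
  refine Nat.eq_of_testBit_eq fun b => ?_
  by_cases hb : b < 19
  · have h5 := List.all_eq_true.1 hc b (List.mem_range.2 hb)
    rw [fB_eq, apw_eq, apw_eq] at h5
    have h6 : Nat.testBit _ p = Nat.testBit _ p := congrArg (fun x => Nat.testBit x p) (Nat.eq_of_beq_eq_true h5)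
    rwa [testBit_appWord h3, testBit_tri (pl_high b) h1, testBit_tri (fun i hi => by
      rw [testBit_appWord h, wperm_eq_of_le h hi, pl_high b i hi]) hp, testBit_appWord h,
      testBit_pl (by norm_num) h4 hb, testBit_pl (by norm_num) h2 hb] at h6
  · have hk : 2 ^ 19 ≤ 2 ^ b := Nat.pow_le_pow_right (by norm_num) (by omega)
    rw [Nat.testBit_lt_two_pow (by omega), Nat.testBit_lt_two_pow (by omega)]

theorem p_l : chkP (T.nw [.l] false) (nw [.l] false) = true := by decide +kernel
theorem p_k : chkP (T.nw [.k] false) (nw [.k] false) = true := by decide +kernel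
theorem p_a : chkP (T.nw [.a] false) (nw [.a] false) = true := by decide +kernel
theorem p_b : chkP (T.nw [.b] false) (nw [.b] false) = true := by decide +kernel
theorem p_c : chkP (T.nw [.c] false) (nw [.c] false) = true := by decide +kernel
theorem p_d : chkP (T.nw [.d] false) (nw [.d] false) = true := by decide +kernel
theorem p_e : chkP (T.nw [.e] false) (nw [.e] false) = true := by decide +kernel
theorem p_f : chkP (T.nw [.f] false) (nw [.f] false) = true := by decide +kernel
theorem p_g : chkP (T.nw [.g] false) (nw [.g] false) = true := by decide +kernel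
theorem p_j : chkP (T.nw [.j] false) (nw [.j] false) = true := by decide +kernel
theorem p_h : chkP (T.nw [.h] false) (nw [.h] false) = true := by decide +kernel
theorem p_i : chkP (T.nw [.i] false) (nw [.i] false) = true := by decide +kernel

theorem p_gen (s : Fi24.Gen) : chkP (T.nw [s] false) (nw [s] false) = true := by
  cases s
  exacts [p_l, p_k, p_a, p_b, p_c, p_d, p_e, p_f, p_g, p_j, p_h, p_i]

theorem rho3_lt (g : P3) {p : ℕ} (hp : p < 983040) : rho3 g p < 983040 :=
  (om3_iff _).1 ((ok3.om g p).trans ((om3_iff p).2 hp))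

theorem pr_one : Pr (rho3 1) (rho (q3 1)) := fun p _ => by rw [map_one, map_one, map_one]; rfl

theorem pr_mul {a b : P3} (ha : Pr (rho3 a) (rho (q3 a))) (hb : Pr (rho3 b) (rho (q3 b))) :
    Pr (rho3 (a * b)) (rho (q3 (a * b))) := fun p hp => by
  rw [map_mul, map_mul, map_mul, Equiv.Perm.mul_apply, Equiv.Perm.mul_apply, ha _ (rho3_lt b hp), hb p hp]

theorem pr_y (s : Fi24.Gen) : Pr (rho3 (y s)) (rho (q3 (y s))) := by
  have h1 := rho3_list [s]
  have h2 := rho_word [s]
  rw [List.map_singleton, List.prod_singleton] at h1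
  rw [word, List.map_singleton, List.prod_singleton] at h2
  rw [h1, q3_of, h2]
  exact pr_of_chk (okT.wok _ _) (wok _ _) (p_gen s)

theorem pr_list : ∀ l : List Fi24.Gen, Pr (rho3 (l.map y).prod) (rho (q3 (l.map y).prod))
  | [] => pr_one
  | s :: l => by
    rw [List.map_cons, List.prod_cons]
    exact pr_mul (pr_y s) (pr_list l)

theorem pr_pow (c : ℕ) : ∀ e : ℕ, Pr (rho3 (el3 c ^ e)) (rho (q3 (el3 c ^ e)))
  | 0 => by rw [pow_zero]; exact pr_one
  | e + 1 => by rw [pow_succ]; exact pr_mul (pr_pow c e) (pr_list _)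

/-- the network of `z` -/
noncomputable def Z : Net := .cons (Nat.shiftLeft UG 327680) 327680 (.cons UG 327680 .nil)

/-- the sheets -/
noncomputable def sh (N i : ℕ) : ℕ := Nat.shiftLeft (Nat.sub (Nat.pow 2 N) 1) (Nat.mul N i)

theorem testBit_sh (N i p : ℕ) : (sh N i).testBit p = true ↔ N * i ≤ p ∧ p - N * i < N := by
  change ((2 ^ N - 1) <<< (N * i)).testBit p = true ↔ _
  rw [Nat.testBit_shiftLeft, Nat.testBit_two_pow_sub_one, Bool.and_eq_true, decide_eq_true_eq, decide_eq_true_eq]

theorem ok_Z : Z.ok 983040 = true := by decide +kernel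

theorem p_Z : chkP [Z] [] = true := by decide +kernel

theorem z_cj : cj3B 0 0xb91682736456ca 17 0 1 1 = true := by decide +kernel

theorem z_sh0 : Nat.beq (ap3 0xb91682736456ca 17 (sh 327680 0)) (apL Z (sh 327680 0)) = true := by decide +kernel

theorem z_sh1 : Nat.beq (ap3 0xb91682736456ca 17 (sh 327680 1)) (apL Z (sh 327680 1)) = true := by decide +kernel

theorem el3_zero : el3 0 = 1 := by
  rw [el3, show H843.Pat.dec 5000 0 = [] from rfl, List.map_nil, List.prod_nil]

theorem z_eq' : el3 0xb91682736456ca ^ 17 = z17 := by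
  have h := cj3B_spec z_cj
  rwa [el3_zero, one_mul, one_pow, mul_one, mul_one, pow_one] at h

theorem rho3_z (p : ℕ) : rho3 z17 p = Z.perm p := by
  by_cases hp : p < 983040
  swap
  · rw [rho3_ge _ _ (not_lt.1 hp), perm_eq_of_le ok_Z (not_lt.1 hp)]
  have h1 := pr_pow 0xb91682736456ca 17 p hp
  have h2 := pr_of_chk (WOk.cons ok_Z (WOk.nil _)) (WOk.nil _) p_Z p hp
  have h3 := acts3 0xb91682736456ca 17 (sh 327680 0) p
  have h4 := acts3 0xb91682736456ca 17 (sh 327680 1) p
  rw [Nat.eq_of_beq_eq_true z_sh0, apL_eq, testBit_app ok_Z, z_eq', Bool.eq_iff_iff, testBit_sh, testBit_sh] at h3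
  rw [Nat.eq_of_beq_eq_true z_sh1, apL_eq, testBit_app ok_Z, z_eq', Bool.eq_iff_iff, testBit_sh, testBit_sh] at h4
  rw [z_eq', q3_z, map_one, Equiv.Perm.one_apply] at h1
  rw [wperm_cons, wperm_nil, mul_one, Equiv.Perm.one_apply] at h2
  have h5 := rho3_lt z17 hp
  have h6 := perm_lt ok_Z hp
  generalize rho3 z17 p = a at h1 h3 h4 h5 ⊢
  generalize Z.perm p = b at h2 h3 h4 h6 ⊢
  omega

/-- **the action of `z` on masks** -/
theorem acts_z : Acts rho3 (apL Z) z17 := fun P p => by rw [apL_eq, testBit_app ok_Z, rho3_z]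

/-- the action of `z ^ j * w ^ e` on masks -/
noncomputable def apz (j c e : ℕ) : ℕ → ℕ := fun P => ap3 c e (apN (apL Z) j P)

theorem actsz (j c e : ℕ) : Acts rho3 (apz j c e) (z17 ^ j * el3 c ^ e) := (acts_z.pow j).mul (acts3 c e)

end Cfsg.Agent.TAB.F24C.Fx
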