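import Cfsg.Agent.TAB.F24C.CF

/-!
# `Fi₂₄` : the centralizer of the type 63 (helper96, TAB; generated by notes/TAB/F24/gen96.cpp)
-/

set_option autoImplicit false
set_option maxRecDepth 100000
set_option Elab.async false

namespace Cfsg.Agent.TAB.F24C.E63

open Cfsg.Agent.TAB.PE Cfsg.Agent.TAB.CE
open Cfsg.Agent.Fischer.Fi24Rep (rho)
open Cfsg.Spor

/-- data -/
noncomputable def L : ℕ := 0x4842b4838f4750045a3543a903f6ef3ed273d0f439a77373c23709834574320bb3206531a32316342dae72b28f2b1e92ab9b2749025d1a211241e8941e5511cc370c6420b65c07af6071de05bd1059e7029a2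

/-- data -/
noncomputable def X : ℕ := 0x1c00b01a00e01b01101300700901d01201401601501f01900c00101e00301002000201800a01700500600000400d00800f

theorem hi : Inj 33 L := inj_of (by decide +kernel)

theorem px_0 : tbB (ap 0x6415374a8629b153 1) 33 L X [0, 1, 2, 3, 4, 5] = true := by decide +kernel

theorem hx : Tb rho 33 L (el 0x6415374a8629b153 ^ 1) (gt X) :=
  tb_of (nb := 6) hi (acts 0x6415374a8629b153 1)
    (Pl.app px_0 Pl.nil) (by decide +kernel)

/-- data -/
noncomputable def c0 : ℕ := 0xca84293bac64b9586b7c869b7586b75864b75364975869b7c86b7569b7586a79876543c2b3645c6b7c869b75864b75a864975a8697384b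

/-- data -/
noncomputable def T0 : ℕ := 0x701100300200401d01201e01801301c00b00100000a00f00501901402000900d01f00c01700800601001b01a00e016015

/-- data -/
noncomputable def U0 : ℕ := 0xd00a01901b01600400300f01800800100000e01701a01f00501100200b00901501200c00702000601001c01e01d014013

theorem k0 : cjB cx (apN (ap 0x6415374a8629b153 1) 2) (apN (ap 0x6415374a8629b153 1) 2) c0 = true := by decide +kernel

theorem p0_0 : tbB (aw c0) 33 L T0 [0, 1, 2, 3] = true := by decide +kernel

theorem p0_1 : tbB (aw c0) 33 L T0 [4, 5] = true := by decide +kernel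

theorem g0 : el c0 ∈ Subgroup.centralizer {(el 0x6415374a8629b153 ^ 1) ^ 2} ∧ Tb rho 33 L (el c0) (gt T0) :=
  gen_ok (nb := 6) ((acts 0x6415374a8629b153 1).pow 2) k0 hi
    (Pl.app p0_0 (Pl.app p0_1 Pl.nil)) (by decide +kernel)

theorem i0 : invB 33 T0 U0 = true := by decide +kernel

/-- data -/
noncomputable def c1 : ℕ := 0xb756576857c6b5637a8495c86b7c869b756a159248b537c46b5c64b753641b758642b736495a869b7c869b75a8649b753c8649b75328641375284b1

/-- data -/
noncomputable def T1 : ℕ := 0x701101601501701d01201e00901301c00b02001f01b00e00c00d01400101001900000500401a01800600a00800f003002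

/-- data -/
noncomputable def U1 : ℕ := 0x1401301901b01601200700b00601c01e01d00e01701a01f00c00201100f01001500401800302000500900800100000d00a

theorem k1 : cjB cx (apN (ap 0x6415374a8629b153 1) 2) (apN (ap 0x6415374a8629b153 1) 2) c1 = true := by decide +kernel

theorem p1_0 : tbB (aw c1) 33 L T1 [0, 1, 2, 3] = true := by decide +kernel

theorem p1_1 : tbB (aw c1) 33 L T1 [4, 5] = true := by decide +kernel

theorem g1 : el c1 ∈ Subgroup.centralizer {(el 0x6415374a8629b153 ^ 1) ^ 2} ∧ Tb rho 33 L (el c1) (gt T1) :=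
  gen_ok (nb := 6) ((acts 0x6415374a8629b153 1).pow 2) k1 hi
    (Pl.app p1_0 (Pl.app p1_1 Pl.nil)) (by decide +kernel)

theorem i1 : invB 33 T1 U1 = true := by decide +kernel

/-- words -/
noncomputable def ws : List ℕ := [1, 2, 21, 12, 8, 29, 11, 7, 33, 31, 47, 120, 10, 5, 0, 13, 14, 3]

theorem lv : levB 33 (fun i => i) (fun i => i) X 4 [T0, U0, T1, U1] [U0, T0, U1, T1] [0, 5, 16] ws 18 = true := by
  decide +kernel

theorem cen [Finite Fi24] (hy : Nat.card (Subgroup.centralizer ({(el 0x6415374a8629b153 ^ 1) ^ 2} : Set Fi24)) ≤ 1944) :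
    Nat.card (Subgroup.centralizer ({el 0x6415374a8629b153 ^ 1} : Set Fi24)) ≤ 108 :=
  cen_one hi hx (.cons g0 (.cons (gen_inv g0 i0) (.cons g1 (.cons (gen_inv g1 i1) .nil)))) lv hy (by norm_num)

end Cfsg.Agent.TAB.F24C.E63
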