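import Cfsg.Agent.TAB.F24C.CF

/-!
# `Fi₂₄` : the centralizer of the type 65 (helper96, TAB; generated by notes/TAB/F24/gen96.cpp)
-/

set_option autoImplicit false
set_option maxRecDepth 100000
set_option Elab.async false

namespace Cfsg.Agent.TAB.F24C.E65

open Cfsg.Agent.TAB.PE Cfsg.Agent.TAB.CE
open Cfsg.Agent.Fischer.Fi24Rep (rho)
open Cfsg.Spor

/-- data -/
noncomputable def L : ℕ := 0x4b3ba4b39a00161001600009c000940007500017

/-- data -/
noncomputable def X : ℕ := 0x6004007005001000002003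

theorem hi : Inj 8 L := inj_of (by decide +kernel)

theorem px_0 : tbB (ap 0x5913682cab 1) 8 L X [0, 1, 2, 3] = true := by decide +kernel

theorem hx : Tb rho 8 L (el 0x5913682cab ^ 1) (gt X) :=
  tb_of (nb := 4) hi (acts 0x5913682cab 1)
    (Pl.app px_0 Pl.nil) (by decide +kernel)

/-- data -/
noncomputable def c0 : ℕ := 0xbc68b79c68b7c6b5c6b7c86b7526b753c642b53647586b7c6b5649531ca4291

/-- data -/
noncomputable def T0 : ℕ := 0x7004001006005003002

/-- data -/
noncomputable def U0 : ℕ := 0x6003002005001000004007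

theorem k0 : cjB cx (apN (ap 0x5913682cab 1) 2) (apN (ap 0x5913682cab 1) 2) c0 = true := by decide +kernel

theorem p0_0 : tbB (aw c0) 8 L T0 [0, 1, 2, 3] = true := by decide +kernel

theorem g0 : el c0 ∈ Subgroup.centralizer {(el 0x5913682cab ^ 1) ^ 2} ∧ Tb rho 8 L (el c0) (gt T0) :=
  gen_ok (nb := 4) ((acts 0x5913682cab 1).pow 2) k0 hi
    (Pl.app p0_0 Pl.nil) (by decide +kernel)

theorem i0 : invB 8 T0 U0 = true := by decide +kernel

/-- data -/
noncomputable def c1 : ℕ := 0x4c63b5c64b5ac69b78617526453456b786275364b5c6b7c69b5a64c53b1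

/-- data -/
noncomputable def T1 : ℕ := 0x7004001003002006005

/-- data -/
noncomputable def U1 : ℕ := 0x6001000005003002004007

theorem k1 : cjB cx (apN (ap 0x5913682cab 1) 2) (apN (ap 0x5913682cab 1) 2) c1 = true := by decide +kernel

theorem p1_0 : tbB (aw c1) 8 L T1 [0, 1, 2, 3] = true := by decide +kernel

theorem g1 : el c1 ∈ Subgroup.centralizer {(el 0x5913682cab ^ 1) ^ 2} ∧ Tb rho 8 L (el c1) (gt T1) :=
  gen_ok (nb := 4) ((acts 0x5913682cab 1).pow 2) k1 hi
    (Pl.app p1_0 Pl.nil) (by decide +kernel)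

theorem i1 : invB 8 T1 U1 = true := by decide +kernel

/-- words -/
noncomputable def ws : List ℕ := [3, 1, 55, 34, 56, 4, 223, 15, 0, 8, 13, 140]

theorem lv : levB 8 (fun i => i) (fun i => i) X 4 [T0, U0, T1, U1] [U0, T0, U1, T1] [0, 2, 4] ws 12 = true := by
  decide +kernel

theorem cen [Finite Fi24] (hy : Nat.card (Subgroup.centralizer ({(el 0x5913682cab ^ 1) ^ 2} : Set Fi24)) ≤ 1920) :
    Nat.card (Subgroup.centralizer ({el 0x5913682cab ^ 1} : Set Fi24)) ≤ 160 :=
  cen_one hi hx (.cons g0 (.cons (gen_inv g0 i0) (.cons g1 (.cons (gen_inv g1 i1) .nil)))) lv hy (by norm_num)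

end Cfsg.Agent.TAB.F24C.E65
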