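import Cfsg.Agent.TAB.F24C.CF

/-!
# `Fi₂₄` : the centralizer of the type 74 (helper96, TAB; generated by notes/TAB/F24/gen96.cpp)
-/

set_option autoImplicit false
set_option maxRecDepth 100000
set_option Elab.async false

namespace Cfsg.Agent.TAB.F24C.E74

open Cfsg.Agent.TAB.PE Cfsg.Agent.TAB.CE
open Cfsg.Agent.Fischer.Fi24Rep (rho)
open Cfsg.Spor

/-- data -/
noncomputable def L : ℕ := 0x49c6b456483ffdf3f3e83c15b3bc753b89736b8533a4833a3930d1f3050e2d2732cfff2b4dc282422722f23b4222da41d20d1ceca1c4fd177dc16d5508a5a08398063650168a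

/-- data -/
noncomputable def X : ℕ := 0x201300000401400b00f01101b00500801500a01800c00701701000601201a01901600100d00300900e

theorem hi : Inj 28 L := inj_of (by decide +kernel)

theorem px_0 : tbB (ap 0x6c813b7a6295386c4b79 1) 28 L X [0, 1, 2, 3, 4] = true := by decide +kernel

theorem hx : Tb rho 28 L (el 0x6c813b7a6295386c4b79 ^ 1) (gt X) :=
  tb_of (nb := 5) hi (acts 0x6c813b7a6295386c4b79 1)
    (Pl.app px_0 Pl.nil) (by decide +kernel)

/-- data -/
noncomputable def c0 : ℕ := 0x53b46957c68b7c6b56475c69b786975864753645c6ab796857c46b5c64b753862753649b5a8c69b7ac869b7867564b75863b72c691b5a8c6427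

/-- data -/
noncomputable def T0 : ℕ := 0x900400701801601200f01b00501101700a01501301400e01a01000d00300800600c00201900b001000

/-- data -/
noncomputable def U0 : ℕ := 0x1400b00301801101700f00d00e01601200a01500c00900500201001b00701900601301a008004001000

theorem k0 : cjB cx (apN (ap 0x6c813b7a6295386c4b79 1) 2) (apN (ap 0x6c813b7a6295386c4b79 1) 2) c0 = true := by decide +kernel

theorem p0_0 : tbB (aw c0) 28 L T0 [0, 1, 2, 3] = true := by decide +kernel

theorem p0_1 : tbB (aw c0) 28 L T0 [4] = true := by decide +kernel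

theorem g0 : el c0 ∈ Subgroup.centralizer {(el 0x6c813b7a6295386c4b79 ^ 1) ^ 2} ∧ Tb rho 28 L (el c0) (gt T0) :=
  gen_ok (nb := 5) ((acts 0x6c813b7a6295386c4b79 1).pow 2) k0 hi
    (Pl.app p0_0 (Pl.app p0_1 Pl.nil)) (by decide +kernel)

theorem i0 : invB 28 T0 U0 = true := by decide +kernel

/-- data -/
noncomputable def c1 : ℕ := 0xa79876b5647586b7c869b75864b75645c4b38c64b7569b7c869b75864ab759c68b57c6b5c642b7538649b75c869b7ac869b75a8649b758649b75c869b7586b75c6419b52ac497

/-- data -/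
noncomputable def T1 : ℕ := 0x1800001900700301b01000801701a00c01500a00e01200601400f00900501600200b00400101101300d

/-- data -/
noncomputable def U1 : ℕ := 0x1601201901b01300701000b00100d00201500a00e00001100500f00901401800c00800401700600301a

theorem k1 : cjB cx (apN (ap 0x6c813b7a6295386c4b79 1) 2) (apN (ap 0x6c813b7a6295386c4b79 1) 2) c1 = true := by decide +kernel

theorem p1_0 : tbB (aw c1) 28 L T1 [0, 1, 2] = true := by decide +kernel

theorem p1_1 : tbB (aw c1) 28 L T1 [3, 4] = true := by decide +kernel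

theorem g1 : el c1 ∈ Subgroup.centralizer {(el 0x6c813b7a6295386c4b79 ^ 1) ^ 2} ∧ Tb rho 28 L (el c1) (gt T1) :=
  gen_ok (nb := 5) ((acts 0x6c813b7a6295386c4b79 1).pow 2) k1 hi
    (Pl.app p1_0 (Pl.app p1_1 Pl.nil)) (by decide +kernel)

theorem i1 : invB 28 T1 U1 = true := by decide +kernel

/-- words -/
noncomputable def ws : List ℕ := [34, 29, 2, 31, 33, 4, 24, 1, 30, 23, 3, 47, 5, 95, 8, 12, 0, 14, 18, 11, 15, 13, 17, 7]

theorem lv : levB 28 (fun i => i) (fun i => i) X 4 [T0, U0, T1, U1] [U0, T0, U1, T1] [0, 10] ws 24 = true := by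
  decide +kernel

theorem cen [Finite Fi24] (hy : Nat.card (Subgroup.centralizer ({(el 0x6c813b7a6295386c4b79 ^ 1) ^ 2} : Set Fi24)) ≤ 1152) :
    Nat.card (Subgroup.centralizer ({el 0x6c813b7a6295386c4b79 ^ 1} : Set Fi24)) ≤ 48 :=
  cen_one hi hx (.cons g0 (.cons (gen_inv g0 i0) (.cons g1 (.cons (gen_inv g1 i1) .nil)))) lv hy (by norm_num)

end Cfsg.Agent.TAB.F24C.E74
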