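import Cfsg.Agent.TAB.F24C.AsmC

/-!
# `Fi₂₄'` and `3.Fi₂₄'` : the scene from the boxes (helper16, TAB)
-/

set_option autoImplicit false
set_option maxRecDepth 100000

namespace Cfsg.Agent.TAB.F24C

open Cfsg.Agent.TAB.Eng Cfsg.Agent.TAB.PE Cfsg.Agent.TAB.F24
open Cfsg.Agent.Fischer.Fi24Rep (rho gen)
open Cfsg.Agent.R08.TThree (P3 z17 rel3_P)
open Cfsg.Agent.H52.ThreeFi24 (q3 q3_of q3_surj y L3 π3 z17_even pce)
open Cfsg.Agent.TAB.F23C (x23)
open Cfsg.Spor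

section generic

variable {E : Type} [Group E] {N : Subgroup E} [N.Normal]

theorem ratA_of [Finite E] {D : Dat} {T : TD N D} {x : ℕ → E} (hT : ∀ g, ∀ i < D.n, T.ty g = i ↔ Rl (x i) (g : E))
    {l : E} (hl : ∀ c, c ∈ N ∨ c * l⁻¹ ∈ N) : RatA T (MulAut.conjNormal l) := by
  refine ⟨fun g => (hT _ _ (T.lt g)).2 (((hT _ _ (T.lt g)).1 rfl).conj (isConj_iff.2 ⟨l, rfl⟩)), fun g h hg => ?_⟩
  obtain ⟨k, -, h1⟩ := ((hT _ _ (T.lt g)).1 rfl).symm.trans ((hT _ _ (T.lt g)).1 hg.symm)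
  obtain ⟨c, hc⟩ := isConj_iff.1 h1
  refine ⟨k, (hl c).imp (fun h2 => isConj_iff.2 ⟨⟨c, h2⟩, Subtype.ext hc⟩)
    fun h2 => isConj_iff.2 ⟨⟨_, h2⟩, Subtype.ext (Eq.trans ?_ hc)⟩⟩
  change c * l⁻¹ * (l * g ^ k * l⁻¹) * (c * l⁻¹)⁻¹ = _
  group

omit [N.Normal] in
theorem conj_sub (h2 : N.index = 2) {x g : N} {w : E} (hw : w ∉ N) (hx : w * x = x * w) (h : IsConj (x : E) g) :
    IsConj x g := by
  obtain ⟨c, hc⟩ := isConj_iff.1 h
  by_cases h1 : c ∈ N
  · exact isConj_iff.2 ⟨⟨c, h1⟩, Subtype.ext hc⟩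
  · refine isConj_iff.2 ⟨⟨c * w, (Subgroup.mul_mem_iff_of_index_two h2).2 (iff_of_false h1 hw)⟩,
      Subtype.ext (Eq.trans ?_ hc)⟩
    change c * w * x * (c * w)⁻¹ = _
    rw [mul_assoc c, hx]
    group

omit [N.Normal] in
theorem one_of (h2 : N.index = 2) {D : Dat} {T : TD N D} {t : ℕ} {x : N} {w : E} (hw : w ∉ N) (hx : w * x = x * w)
    (h : ∀ g, T.ty g = t → IsConj (x : E) g) : One T t :=
  fun g g' hg hg' => (conj_sub h2 hw hx (h g hg)).symm.trans (conj_sub h2 hw hx (h g' hg'))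

theorem all_conj [Finite E] {x : E} (hx : x ∈ N) {c : ℕ} (hc : Nat.card (Subgroup.centralizer ({x} : Set E)) ≤ c)
    (h : Nat.card {g : N // Rl x (g : E)} ≤ Nat.card E / c) {g : N} (hg : Rl x (g : E)) : IsConj x (g : E) := by
  let f : {g : E // IsConj x g} → {g : N // Rl x (g : E)} := fun g => ⟨⟨g.1, by
    obtain ⟨c, hc⟩ := isConj_iff.1 g.2
    exact hc ▸ Subgroup.Normal.conj_mem inferInstance _ hx c⟩, Rl.of_conj g.2⟩
  have hf : Function.Injective f := fun a b hab => Subtype.ext (congrArg (fun u => u.1.1) hab :)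
  obtain ⟨a, ha⟩ := ((Nat.bijective_iff_injective_and_card f).2
    ⟨hf, le_antisymm (Nat.card_le_card_of_injective f hf) (h.trans (div_le_cls hc))⟩).2 ⟨g, hg⟩
  exact (show a.1 = g from congrArg (fun u => u.1.1) ha) ▸ a.2

end generic

theorem l_odd : gen .l ∉ commutator Fi24 := by
  rw [← Fischer.Fi24Final.ker_sgn, MonoidHom.mem_ker]
  exact fun h => absurd ((Fischer.Fi24Final.sgn_gen .l).symm.trans h) (by decide)

theorem par (c : Fi24) : c ∈ commutator Fi24 ∨ c * (gen .l)⁻¹ ∈ commutator Fi24 :=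
  or_iff_not_imp_left.2 fun h => (Subgroup.mul_mem_iff_of_index_two Fischer.Fi24Final.index_commutator).2
    (iff_of_false h fun h1 => l_odd (inv_mem_iff.1 h1))

theorem ev_of {c : P3} (h : q3 c ∈ commutator Fi24) : c ∈ commutator P3 := by
  obtain ⟨e, he⟩ := pce.surj ⟨_, h⟩
  have h1 : q3 e = q3 c := congrArg Subtype.val he
  obtain ⟨j, -, h2⟩ := exists_z (g := c * (e : P3)⁻¹) (by rw [map_mul, map_inv, h1, mul_inv_cancel])
  rw [mul_inv_eq_iff_eq_mul.1 h2]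
  exact mul_mem (pow_mem z17_even j) e.2

theorem par3 (c : P3) : c ∈ commutator P3 ∨ c * (y .l)⁻¹ ∈ commutator P3 :=
  (par (q3 c)).imp ev_of fun h => ev_of (by rwa [map_mul, map_inv, q3_of])

/-- the central element -/
noncomputable abbrev zL : L3 := ⟨z17, z17_even⟩

theorem ord_zL : orderOf zL = 3 := by rw [← ord_z]; exact (Subgroup.orderOf_coe zL).symm

theorem ker_L : π3.ker = Subgroup.zpowers zL := by
  refine le_antisymm (fun g hg => ?_) (Subgroup.zpowers_le.2 (Subtype.ext q3_z))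
  obtain ⟨j, -, h⟩ := exists_z (g := (g : P3)) (congrArg Subtype.val hg)
  rw [show g = zL ^ j from Subtype.ext h]
  exact pow_mem (Subgroup.mem_zpowers _) j

theorem card_L : Nat.card L3 = DX.N := by
  rw [Subgroup.card_eq_card_quotient_mul_card_subgroup π3.ker,
    Nat.card_congr (QuotientGroup.quotientKerEquivOfSurjective _ pce.surj).toEquiv, card24', ker_L, Nat.card_zpowers,
    ord_zL]
  decide +kernel

theorem rl_z {x h : Fi23} (hr : Rl x h) : Rl (z17 * ps x) (z17 * ps h) := by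
  obtain ⟨k, h1, h2⟩ := hr
  obtain ⟨m, h3, h4⟩ := exists_cop h1
  obtain ⟨c, rfl⟩ := isConj_iff.1 h2
  have h5 : Commute z17 (ps x) := (even_z (ps_ev x)).symm
  have h6 : orderOf (z17 * ps x) ∣ 3 * orderOf x :=
    (h5.orderOf_mul_dvd_mul_orderOf).trans (by rw [ord_z]; exact Nat.mul_dvd_mul_left _ (orderOf_map_dvd _ _))
  refine ⟨m, h3.coprime_dvd_right h6, IsConj.trans (b := z17 * ps (x ^ k)) ?_ (isConj_iff.2 ⟨ps c, ?_⟩)⟩
  · rw [h5.mul_pow, ← map_pow, pow_eq_pow_iff_modEq.2 h4, ← pow_mod_orderOf, ord_z]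
    have h7 : ¬ 3 ∣ m := Nat.prime_three.coprime_iff_not_dvd.1 (Nat.Coprime.coprime_mul_right_right h3).symm
    rcases (by omega : m % 3 = 1 ∨ m % 3 = 2) with h8 | h8 <;> rw [h8]
    · rw [pow_one]
    · refine IsConj.symm (isConj_iff.2 ⟨y .l, ?_⟩)
      rw [← mul_assoc, l_z, mul_assoc _ (y .l), ← ps_l, ← mul_assoc, mul_inv_cancel_right]
  · rw [← mul_assoc, even_z (ps_ev c), map_mul, map_mul, map_inv]
    simp only [mul_assoc]

theorem okOrbT : okOrb DT = true := by decide +kernel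

theorem okOrbX : okOrb DX = true := by decide +kernel

set_option synthInstance.maxSize 2000 in
theorem t_one : ∀ t < 94, kind.getD t 0 = 0 →
    (∃ s < 92, fus.getD s 0 = t ∧ (s ∉ [55, 60, 74, 75, 79, 88] ∨ t ∈ [49, 55, 76])) ∨
      (t ∈ [7, 22, 24, 27, 33, 51, 54, 65, 67] ∧ ∃ a ∈ cenT, a.1 = t ∧ DT.cnt t ≤ 2510411418381323442585600 / a.2) := by
  decide +kernel

variable {Y : ℕ → P3}

theorem one_all {T3 : TD Fi23 F23.D} (h3 : ∀ g, ∀ s < 92, T3.ty g = s ↔ Rl (x23 s) g)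
    (h1 : ∀ s < 92, s ∉ [55, 60, 74, 75, 79, 88] → One T3 s) (d : BoxD Y) (e : BoxE Y) (o : BoxO Y) (m : Mid Y)
    {T : TD Fi24' DT} (hm : T.Mass) (hT : ∀ g, ∀ t < DT.n, T.ty g = t ↔ Rl (q3 (Y t)) (g : Fi24)) {t : ℕ}
    (ht : t < 94) (hk : kind.getD t 0 = 0) : One T t := by
  have h2 := Fischer.Fi24Final.index_commutator
  rcases t_one t ht hk with ⟨s, hs, rfl, h4⟩ | ⟨h4, a, ha, rfl, h5⟩
  · have h5 := rl_fus d m.ordX hs (Rl.refl _)
    refine one_of h2 (x := ⟨_, q3_ev (ps_ev (x23 s))⟩) l_odd (ps_l' _).symm fun g hg => ?_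
    have h6 := (hT g _ ht).1 hg
    rcases h4 with h4 | h4
    · obtain ⟨k, h7, h8⟩ := h5.symm.trans h6
      rw [show orderOf (q3 (ps (x23 s))) = orderOf (x23 s) from orderOf_injective _ ps_inj _] at h7
      have h9 := (q3.comp ps).map_isConj (h1 s hs h4 _ _ ((h3 _ _ hs).2 (Rl.refl _)) ((h3 _ _ hs).2 (rl_pow h7)))
      rw [map_pow] at h9
      exact h9.trans h8
    · have h7 := m.ordT _ ht
      have h8 : 0 < DT.ord (fus.getD s 0) := h7 ▸ orderOf_pos _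
      exact (h5.isConj h7 h8 (o.rat _ h4)).symm.trans (h6.isConj h7 h8 (o.rat _ h4))
  · obtain ⟨w, h6, h7⟩ := o.odd _ h4
    refine one_of h2 (x := ⟨_, q3_ev (d.ev _ ht)⟩) h6 h7 fun g hg =>
      all_conj (q3_ev (d.ev _ ht)) (e.cen a ha) ?_ ((hT g _ ht).1 hg)
    rw [R08.TIso.card_Fi24, ← Nat.card_congr (Equiv.subtypeEquivRight fun g => hT g _ ht), hm.2 _ ht]
    exact h5

/-- the embedding into the perfect cover -/
noncomputable def psL : Fi23 →* L3 := ps.codRestrict _ ps_ev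

theorem okSepT : DT.okSep id = true := by decide +kernel

theorem okSepX : DX.okSep id = true := by decide +kernel

theorem XR_zero (d : BoxD Y) : XR Y 0 = 1 := by
  rw [XR, show proj.getD 0 0 = 0 from rfl, d.one, show jx 0 = 0 by decide, pow_zero, mul_one]

theorem XR_one (d : BoxD Y) : XR Y 1 = z17 := by
  rw [XR, show proj.getD 1 0 = 0 from rfl, d.one, show jx 1 = 1 by decide, pow_one, mul_one]

/-- **the scene from the boxes** -/
theorem in_of_mid (h23 : Box23) (d : BoxD Y) (e : BoxE Y) (o : BoxO Y) (m : Mid Y) : In := by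
  obtain ⟨T', h1, h2⟩ := exists_td_orb (commutator Fi24).subtype Subtype.val_injective okOrbT okPowT okSepT okSumT
    card24' (by rw [d.one, map_one]) m.ordT m.pwT m.sepT fun t ht => cntT h23 d e m ht
  obtain ⟨T, h3, h4⟩ := exists_td_orb (commutator P3).subtype Subtype.val_injective okOrbX okPowX okSepX okSumX
    card_L (XR_zero d) m.ordX m.pwX m.sepX fun i hi => cntX h23 d e m hi
  obtain ⟨T3, h5, h6, h7⟩ := h23
  have hl : y .l * y .l = 1 := rel3_P.sq .l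
  refine ⟨L3, inferInstance, inferInstance, ⟨⟨T3, h5, T', T, h1, h3, π3, pce.surj, zL,
    pce.cen (ker_L ▸ Subgroup.mem_zpowers _), ker_L, ord_zL, pce.perf,
    (h4 _ 1 (by decide)).2 (by rw [XR_one d]; exact Rl.refl _), MulAut.conjNormal (gen .l),
    MulAut.conjNormal (y .l), fun x => Subtype.ext ?_, fun x => ?_, Subtype.ext ?_, ratA_of h2 par, ratA_of h4 par3,
    fun x => (h2 _ _ (t_proj _ (T.lt x))).2 ?_, psL, fun a b h => ps_inj (congrArg Subtype.val h), fun h => Subtype.ext ?_,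
    fun h => (h4 _ _ (t_fx _ (T3.lt h)).1).2 (rl_fx0 d m.ordX (T3.lt h) ((h6 _ _ (T3.lt h)).1 rfl)),
    fun h => (h4 _ _ (t_fx _ (T3.lt h)).2.1).2 ?_, fun t ht hk => one_all h6 h7 d e o m h1 h2 ht hk, fun p hp => ?_⟩⟩⟩
  · change q3 (y .l * x * (y .l)⁻¹) = gen .l * q3 x * (gen .l)⁻¹
    rw [map_mul, map_mul, map_inv, q3_of]
  · rw [← MulAut.mul_apply, ← map_mul, hl, map_one, MulAut.one_apply]
  · change y .l * z17 * (y .l)⁻¹ = z17⁻¹
    rw [l_z, mul_inv_cancel_right, eq_inv_iff_mul_eq_one, ← pow_succ, z_cube]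
  · have h8 := ((h4 _ _ (T.lt x)).1 rfl).map q3
    rwa [q3_XR] at h8
  · change y .l * ps h * (y .l)⁻¹ = ps h
    rw [← ps_l, mul_inv_cancel_right]
  · obtain ⟨k, h8, h9⟩ := (d.fus ps ps_is _ (T3.lt h)).2
    exact Rl.trans ⟨k, by rwa [m.ordX _ (t_fx _ (T3.lt h)).2.1], h9⟩ (rl_z ((h6 _ _ (T3.lt h)).1 rfl))
  · obtain rfl : p = (83, 2) := List.mem_singleton.1 hp
    obtain ⟨w, h8, h9⟩ := d.c83
    exact ⟨⟨_, q3_ev (d.ev 83 (by decide))⟩, (h2 _ 83 (by decide)).2 (Rl.refl _),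
      isConj_iff.2 ⟨⟨w, h8⟩, Subtype.ext h9⟩⟩

end Cfsg.Agent.TAB.F24C
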