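import Cfsg.Agent.TAB.F24C.Mdl
import Cfsg.Agent.TAB.F24.Dat
import Cfsg.Agent.TAB.F23C.Rep
import Cfsg.Agent.TAB.PE.Orb

/-!
# `Fi₂₄'` and `3.Fi₂₄'` : the boxes (helper21, TAB)

`Y t` is a lift to `P3 = 3.Fi24` of a representative of the type `t` of `Fi₂₄'`: the lift of type `lf0 t`;
`z * Y t` has the type `lf1 t` and `z ^ 2 * Y t` the type `lf2 t` (indices of `notes/TAB/F24.txt`).
-/

set_option autoImplicit false

namespace Cfsg.Agent.TAB.F24C

open Cfsg.Agent.TAB.Eng Cfsg.Agent.TAB.PE Cfsg.Agent.TAB.F24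
open Cfsg.Agent.Fischer.Fi24Rep (rho)
open Cfsg.Agent.Fischer.Fi24Class (emb)
open Cfsg.Agent.R08.TThree (P3 z17)
open Cfsg.Agent.H52.ThreeFi24 (q3 y)
open Cfsg.Agent.TAB.F23C (x23)
open Cfsg.Spor

/-- the type of `Y t` -/
def lf0 : List ℕ := [0, 2, 4, 6, 7, 9, 10, 12, 13, 15, 17, 19, 21, 23, 25, 26, 28, 29, 31, 33, 35, 37, 39, 40, 43, 44,
  46, 48, 50, 51, 53, 54, 55, 57, 58, 60, 62, 64, 66, 68, 70, 71, 73, 75, 77, 78, 79, 81, 83, 84, 86, 89, 90, 92, 94,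
  96, 98, 100, 101, 102, 104, 105, 107, 109, 112, 114, 116, 117, 118, 120, 122, 125, 126, 127, 128, 130, 131, 133,
  134, 135, 138, 139, 141, 143, 145, 147, 148, 150, 151, 152, 153, 156, 157, 159]

/-- the type of `z * Y t` -/
def lf1 : List ℕ := [1, 3, 5, 6, 8, 9, 11, 12, 14, 16, 18, 20, 22, 23, 24, 27, 28, 30, 32, 34, 36, 38, 39, 41, 42, 45,
  47, 49, 50, 52, 53, 54, 56, 57, 59, 61, 63, 65, 67, 69, 70, 72, 74, 75, 76, 78, 80, 82, 83, 85, 87, 88, 91, 93, 95,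
  97, 99, 100, 101, 103, 104, 106, 108, 110, 113, 115, 116, 117, 119, 121, 123, 124, 126, 127, 129, 130, 132, 133,
  134, 136, 137, 140, 142, 144, 146, 147, 149, 150, 151, 152, 154, 155, 158, 160]

/-- the type of `z ^ j * Y t` -/
def lf (t j : ℕ) : ℕ := if j = 0 then lf0.getD t 0 else if j = 2 ∧ t = 63 then 111 else lf1.getD t 0

/-- the power of `z` in the representative of a type of the cover -/
def jx (i : ℕ) : ℕ := if i = lf0.getD (proj.getD i 0) 0 then 0 else if i = 111 then 2 else 1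

/-- the representatives of the types of the cover -/
noncomputable def XR (Y : ℕ → P3) (i : ℕ) : P3 := z17 ^ jx i * Y (proj.getD i 0)

/-- the numbers of fixed transpositions -/
def piT : List ℕ := [306936, 504, 3512, 162, 378, 3240, 1485, 0, 8, 64, 120, 36, 2, 18, 18, 18, 72, 29, 38, 45, 126,
  128, 0, 21, 0, 4, 12, 0, 9, 6, 27, 36, 45, 0, 4, 12, 3, 1, 2, 2, 12, 4, 5, 18, 6, 36, 16, 21, 0, 6, 5, 0, 3, 15, 0,
  2, 1, 3, 3, 2, 12, 5, 8, 0, 4, 0, 6, 0, 0, 3, 1, 1, 6, 6, 0, 0, 2, 3, 0, 1, 0, 1, 3, 0, 1, 3, 1, 0, 3, 0, 2, 0, 0, 1]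

/-- the types of the cover which are told by the fixed points on the 920808 points, with their numbers -/
def piX : List (ℕ × ℕ) := [(7, 1134), (8, 0), (10, 4455), (11, 0), (21, 6), (22, 0), (23, 18), (24, 0), (25, 54),
  (37, 384), (38, 0), (51, 18), (52, 0), (55, 135), (56, 0), (66, 6), (67, 0), (92, 45), (93, 0), (107, 24), (108, 0)]

/-- the fixed point free types with the orders of the centralizers in `Fi24` -/
def cenT : List (ℕ × ℕ) := [(7, 76422528), (22, 10368), (24, 4116), (27, 1536), (33, 118098), (48, 864), (51, 84),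
  (54, 810), (63, 108), (65, 160), (67, 126), (68, 42), (74, 48), (75, 72), (78, 81), (80, 29), (83, 66), (87, 432),
  (89, 117), (91, 42), (92, 45)]

/-- `psi` is the embedding of `Fi23` in the centralizer of `y l` -/
def IsPsi (psi : Fi23 →* P3) : Prop := ∀ s, psi (Fischer.Fi23Hom.gen s) = y (emb s) * y .l

/-- **box d** : conjugacy certificates and fixed points (62232 = 983040 - 920808 positions are not used) -/
structure BoxD (Y : ℕ → P3) : Prop where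
  ev : ∀ t < 94, Y t ∈ commutator P3
  one : Y 0 = 1
  pw : PwC DX (XR Y)
  ne : q3 (Y 80) ≠ 1
  lift : ∀ t < 94, ∀ j < 3, ∃ k, Nat.Coprime k (DX.ord (lf t j)) ∧ IsConj (XR Y (lf t j) ^ k) (z17 ^ j * Y t)
  fus : ∀ psi, IsPsi psi → ∀ s < 92,
    (∃ k, Nat.Coprime k (DX.ord (fx0.getD s 0)) ∧ IsConj (XR Y (fx0.getD s 0) ^ k) (psi (x23 s))) ∧
    ∃ k, Nat.Coprime k (DX.ord (fx1.getD s 0)) ∧ IsConj (XR Y (fx1.getD s 0) ^ k) (z17 * psi (x23 s))
  fix : ∀ t < 94, piT.getD t 0 ≠ 0 ∨ t ∈ [7, 24, 27, 33] → fixc cx rho (q3 (Y t)) = piT.getD t 0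
  fix3 : ∀ a ∈ piX, fixc cx3 rho3 (XR Y a.1) = a.2 + 62232
  c83 : ∃ w ∈ commutator Fi24, w * q3 (Y 83) * w⁻¹ = q3 (Y 83) ^ 2

/-- **box e** : the centralizers of the fixed point free elements -/
structure BoxE (Y : ℕ → P3) : Prop where
  cen : ∀ a ∈ cenT, Nat.card (Subgroup.centralizer ({q3 (Y a.1)} : Set Fi24)) ≤ a.2
  n83 : ¬ IsConj (q3 (Y 83)) (q3 (Y 83) ^ 5)
  s63 : ¬ Rl (XR Y 110) (XR Y 111)

/-- **box o** : single classes (for the field `one`) -/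
structure BoxO (Y : ℕ → P3) : Prop where
  odd : ∀ t ∈ [7, 22, 24, 27, 33, 51, 54, 65, 67], ∃ w ∉ commutator Fi24, w * q3 (Y t) = q3 (Y t) * w
  rat : ∀ t ∈ [49, 55, 76], ∀ k < DT.ord t, Nat.Coprime k (DT.ord t) → IsConj (q3 (Y t)) (q3 (Y t) ^ k)

/-- **box 23** : the types of `Fi23` are the orbits of the `x23 s`; single classes -/
def Box23 : Prop := ∃ T : TD Fi23 F23.D, F23.Hyp T ∧ (∀ g, ∀ s < 92, T.ty g = s ↔ Rl (x23 s) g) ∧
  ∀ s < 92, s ∉ [55, 60, 74, 75, 79, 88] → One T s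

end Cfsg.Agent.TAB.F24C
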