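import Cfsg.Agent.TAB.F24C.Rep

/-!
# `3.Fi₂₄` : conjugacy certificates, the generic part (helper51, TAB)

A certificate `⟨a, e, s, k, w, c⟩` says `w a ^ e = z ^ c (root of the type s) ^ (ye s * k) w`.  The tables `okL`, `okP`,
`okF` turn a list of certificates into the fields `lift`, `pw`, `fus` of `BoxD Y`.
-/

set_option autoImplicit false
set_option maxRecDepth 100000
set_option Elab.async false

namespace Cfsg.Agent.TAB.F24C.D

open Cfsg.Agent.TAB.Eng Cfsg.Agent.TAB.PE Cfsg.Agent.TAB.F24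
open Cfsg.Agent.H843.Pat (dec)
open Cfsg.Agent.Fischer.Fi24Class (emb emb_ne_k)
open Cfsg.Agent.R08.TThree (P3 z17 rel3_P)
open Cfsg.Agent.H52.ThreeFi24 (q3 y z17_even)
open Cfsg.Agent.TAB.F23C (x23)
open Cfsg.Spor

section abstract

variable {E : Type*} [Group E] {z : E}

theorem zmod (hz : z ^ 3 = 1) {a b : ℕ} (h : a % 3 = b % 3) : z ^ a = z ^ b := by
  rw [← Nat.div_add_mod a 3, ← Nat.div_add_mod b 3, pow_add, pow_add, pow_mul, pow_mul, hz, one_pow, one_pow, h]

theorem cf_of {w x v : E} {ε c : ℕ} (hw : w * z = z ^ ε * w) (h : w * x = z ^ c * v * w) (j : ℕ) :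
    IsConj (z ^ (ε * j + c) * v) (z ^ j * x) := by
  have h1 : w * z ^ j = (z ^ ε) ^ j * w := SemiconjBy.pow_right hw j
  refine IsConj.symm (isConj_iff.2 ⟨w, ?_⟩)
  rw [← mul_assoc, h1, mul_assoc _ w x, h, pow_add, pow_mul]
  simp only [mul_assoc, mul_inv_cancel, mul_one]

theorem zpw {x : E} (hx : x * z = z * x) (j k : ℕ) : (z ^ j * x) ^ k = z ^ (j * k) * x ^ k := by
  rw [((show Commute x z from hx).symm.pow_left j).mul_pow, pow_mul]

theorem lnk_pow {g r v : E} (hg : g * z = z * g) (h : g * r * g⁻¹ = v) (n k : ℕ) :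
    IsConj (z ^ n * r ^ k) (z ^ n * v ^ k) := by
  refine isConj_iff.2 ⟨g, ?_⟩
  rw [← h, conj_pow, ← mul_assoc, ((show Commute g z from hg).pow_right n).eq]
  simp only [mul_assoc]

theorem img_word {A B : Type} {f : A → E} {g : B → E} {u : A → B} {l : E} (h : ∀ a, f a = g (u a) * l)
    (hc : ∀ a, g (u a) * l = l * g (u a)) : ∀ w : List A,
    (w.map f).prod = ((w.map u).map g).prod * l ^ w.length ∧ Commute l ((w.map u).map g).prod
  | [] => by simp
  | a :: w => by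
    obtain ⟨h1, h2⟩ := img_word h hc w
    simp only [List.map_cons, List.prod_cons, List.length_cons]
    refine ⟨?_, Commute.mul_right (hc a).symm h2⟩
    rw [h1, h, pow_succ', mul_assoc, ← mul_assoc l, h2.eq]
    simp only [mul_assoc]

end abstract

/-- the cheap roots -/
def zc (t : ℕ) : ℕ := if t = 89 then 0x7684b7951c862b73c86a4b79586b else yc.getD t 0

/-- the cheap representatives -/
noncomputable def R (t : ℕ) : P3 := z17 ^ yz.getD t 0 * el3 (zc t) ^ ye.getD t 0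

theorem ev0 : ∀ t < 94, odd (zc t) = false ∧ odd (yc.getD t 0) = false := by decide +kernel

theorem evY (t : ℕ) (ht : t < 94) : Y t ∈ commutator P3 :=
  mul_mem (pow_mem z17_even _) (pow_mem (el3_even (ev0 t ht).2) _)

theorem Y_z {t : ℕ} (ht : t < 94) : Y t * z17 = z17 * Y t := even_z (evY t ht)

theorem Y_zero : Y 0 = 1 := by
  rw [Y, show yz.getD 0 0 = 0 from rfl, show yc.getD 0 0 = 0 from rfl, el3, show dec 5000 0 = [] from rfl, List.map_nil,
    List.prod_nil, pow_zero, one_pow, mul_one]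

/-- the word which links the two roots of the type 89 -/
def w89 : ℕ := 0x58c237b462517b8462975b86c7b685974a86397b26857b46c5b6473b86c957a48675b9486975b6c85b9746c375b486357b465b7486c97b386c75b6cb

theorem chk89 : cj3B w89 (zc 89) 1 (yc.getD 89 0) 1 0 = true := by decide +kernel

theorem ev89 : odd w89 = false := by decide +kernel

theorem lnk (t : ℕ) : ∃ g, g * z17 = z17 * g ∧ g * R t * g⁻¹ = Y t := by
  by_cases h : t = 89
  · subst h
    refine ⟨el3 w89, even_z (el3_even ev89), ?_⟩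
    have h1 := cj3B_spec chk89
    rw [R, Y, show yz.getD 89 0 = 0 from rfl, show ye.getD 89 0 = 1 from rfl, pow_zero, one_mul, h1, pow_zero,
      mul_inv_cancel_right]
  · exact ⟨1, by rw [one_mul, mul_one], by rw [one_mul, inv_one, mul_one, R, Y, zc, if_neg h]⟩

theorem src {t : ℕ} (ht : t < 94) (j p : ℕ) :
    IsConj (z17 ^ (j + yz.getD t 0 * p) * el3 (zc t) ^ (ye.getD t 0 * p)) (z17 ^ j * Y t ^ p) := by
  obtain ⟨g, h1, h2⟩ := lnk t
  have h3 := lnk_pow h1 h2 j p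
  rwa [R, zpw (even_z (pow_mem (el3_even (ev0 t ht).1) _)), ← mul_assoc, ← pow_add, ← pow_mul] at h3

/-- a certificate -/
structure Ct where
  a : ℕ
  e : ℕ
  s : ℕ
  k : ℕ
  w : ℕ
  c : ℕ

/-- the shift -/
noncomputable def Ct.sh (x : Ct) (j : ℕ) : ℕ := cond (odd x.w) 2 1 * j + x.c + 2 * (yz.getD x.s 0 * x.k)

/-- the check of a certificate -/
noncomputable def Ct.chk (x : Ct) : Bool := Nat.ble x.s 93 &&
  ((Nat.beq x.w 0 && Nat.beq x.c 0 && Nat.beq x.a (zc x.s) && Nat.beq x.e (ye.getD x.s 0 * x.k)) ||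
    cj3B x.w x.a x.e (zc x.s) (ye.getD x.s 0 * x.k) x.c)

/-- the meaning of a certificate -/
def Ct.Ok (x : Ct) : Prop := x.s < 94 ∧ ∀ j, IsConj (z17 ^ x.sh j * Y x.s ^ x.k) (z17 ^ j * el3 x.a ^ x.e)

theorem el3_zero : el3 0 = 1 := by rw [el3, show dec 5000 0 = [] from rfl, List.map_nil, List.prod_nil]

theorem el3_z (w : ℕ) : el3 w * z17 = z17 ^ cond (odd w) 2 1 * el3 w := by
  cases h : odd w
  · rw [cond_false, pow_one]; exact even_z (el3_even h)
  · exact odd_z (el3_odd h)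

theorem Ct.ok {x : Ct} (h : x.chk = true) : x.Ok := by
  rw [Ct.chk, Bool.and_eq_true, Bool.or_eq_true] at h
  have hs : x.s < 94 := Nat.lt_succ_of_le (Nat.le_of_ble_eq_true h.1)
  have h1 : el3 x.w * el3 x.a ^ x.e = z17 ^ x.c * el3 (zc x.s) ^ (ye.getD x.s 0 * x.k) * el3 x.w := by
    rcases h.2 with h2 | h2
    · simp only [Bool.and_eq_true, Nat.beq_eq] at h2
      rw [h2.1.1.1, h2.1.1.2, h2.1.2, h2.2, el3_zero, pow_zero, one_mul, mul_one]
    · exact cj3B_spec h2
  refine ⟨hs, fun j => ((src hs _ _).symm.trans ?_)⟩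
  have h2 := cf_of (el3_z x.w) h1 j
  rwa [zmod z_cube (b := x.sh j + yz.getD x.s 0 * x.k) (by rw [Ct.sh]; omega)] at h2

/-- the check of a list -/
noncomputable def chkL (l : List Ct) : Bool :=
  List.rec (motive := fun _ => Bool) true (fun x _ ih => Bool.rec false ih x.chk) l

theorem chkL_spec : ∀ {l : List Ct}, chkL l = true → ∀ x ∈ l, x.Ok
  | [], _, _, hx => absurd hx List.not_mem_nil
  | a :: l, h, x, hx => by
    have h' : (Bool.rec false (chkL l) a.chk : Bool) = true := h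
    have h1 : a.chk = true := by
      cases hc : a.chk with
      | false => rw [hc] at h'; exact absurd h' (by simp)
      | true => rfl
    rw [h1] at h'
    rcases List.mem_cons.1 hx with rfl | hx
    · exact Ct.ok h1
    · exact chkL_spec h' x hx

theorem ok_app {l m : List Ct} (h : ∀ x ∈ l, x.Ok) (h' : ∀ x ∈ m, x.Ok) : ∀ x ∈ l ++ m, x.Ok :=
  fun x hx => (List.mem_append.1 hx).elim (h x) (h' x)

theorem Ct.Ok.toY {x : Ct} (h : x.Ok) {t p : ℕ} (ht : t < 94) (ha : x.a = zc t) (he : x.e = ye.getD t 0 * p) (j : ℕ) :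
    IsConj (z17 ^ x.sh (j + yz.getD t 0 * p) * Y x.s ^ x.k) (z17 ^ j * Y t ^ p) := by
  have h1 := h.2 (j + yz.getD t 0 * p)
  rw [ha, he] at h1
  exact h1.trans (src ht j p)

/-- the field `lift` -/
def Lift : Prop := ∀ t < 94, ∀ j < 3, ∃ k, Nat.Coprime k (DX.ord (lf t j)) ∧ IsConj (XR Y (lf t j) ^ k) (z17 ^ j * Y t)

/-- the table of the field `lift` -/
noncomputable def okL (l : List Ct) : Bool := (List.range 94).all fun t => (List.range 3).all fun j =>
  proj.getD (lf t j) 0 == t && (jx (lf t j) == j || l.any fun x => x.s == t && x.k == 1 && x.a == zc t &&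
    (List.range 8).any fun p => x.e == ye.getD t 0 * p && Nat.gcd p (DX.ord (lf t j)) == 1 &&
      (x.sh (jx (lf t j) * p + yz.getD t 0 * p) % 3 == j ||
        (p == 1 && x.sh (x.sh (jx (lf t j) + yz.getD t 0 * 1) + yz.getD t 0 * 1) % 3 == j)))

theorem lift_of {l : List Ct} (hl : ∀ x ∈ l, x.Ok) (h : okL l = true) : Lift := by
  intro t ht j hj
  have h1 := List.all_eq_true.1 (List.all_eq_true.1 h t (List.mem_range.2 ht)) j (List.mem_range.2 hj)
  simp only [Bool.and_eq_true, Bool.or_eq_true, List.any_eq_true, beq_iff_eq] at h1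
  obtain ⟨h1, h2⟩ := h1
  rw [XR, h1]
  rcases h2 with h2 | ⟨x, hx, ⟨⟨h2, h3⟩, h4⟩, p, -, ⟨h5, h6⟩, h7⟩
  · exact ⟨1, Nat.coprime_one_left _, by rw [pow_one, h2]⟩
  · have h8 := (hl x hx).toY ht h4 h5
    rw [h2, h3, pow_one] at h8
    refine ⟨p, h6, ?_⟩
    rw [zpw (Y_z ht)]
    rcases h7 with h7 | ⟨rfl, h7⟩
    · rw [zmod z_cube (a := j) (b := x.sh (jx (lf t j) * p + yz.getD t 0 * p)) (by omega)]
      exact (h8 _).symm
    · rw [zmod z_cube (a := j) (b := x.sh (x.sh (jx (lf t j) + yz.getD t 0 * 1) + yz.getD t 0 * 1)) (by omega), mul_one]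
      have h9 := h8 (x.sh (jx (lf t j) + yz.getD t 0 * 1))
      rw [pow_one] at h9
      exact (h8 _).symm.trans h9.symm

/-- the target of a certificate has the type `i` -/
noncomputable def Ct.tg (x : Ct) (j i : ℕ) : Bool := (List.range 3).any fun m =>
  lf x.s m == i && Nat.gcd x.k (DX.ord i) == 1 && m * x.k % 3 == x.sh j % 3

theorem Ct.Ok.tg {x : Ct} (h : x.Ok) (hL : Lift) {j i : ℕ} (hi : x.tg j i = true) :
    ∃ k, Nat.Coprime k (DX.ord i) ∧ IsConj (XR Y i ^ k) (z17 ^ x.sh j * Y x.s ^ x.k) := by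
  simp only [Ct.tg, Bool.and_eq_true, List.any_eq_true, beq_iff_eq, List.mem_range] at hi
  obtain ⟨m, hm, ⟨rfl, h1⟩, h2⟩ := hi
  obtain ⟨k, h3, h4⟩ := hL x.s h.1 m hm
  refine ⟨k * x.k, Nat.Coprime.mul_left h3 h1, ?_⟩
  have h5 := h4.pow x.k
  rwa [← pow_mul, zpw (Y_z h.1), zmod z_cube h2] at h5

/-- the table of the field `pw` -/
noncomputable def okP (l : List Ct) : Bool := (List.range 161).all fun i => PL.all fun p => DX.ord i % p != 0 ||
  (decide (proj.getD i 0 < 94) && ((p == 3 && proj.getD (DX.pwf i p) 0 == proj.getD i 0 && jx (DX.pwf i p) == 0 &&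
      Nat.gcd 3 (DX.ord (DX.pwf i p)) == 1) ||
    l.any fun x => x.a == zc (proj.getD i 0) && x.e == ye.getD (proj.getD i 0) 0 * p &&
      x.tg (jx i * p + yz.getD (proj.getD i 0) 0 * p) (DX.pwf i p)))

theorem pw_of {l : List Ct} (hl : ∀ x ∈ l, x.Ok) (hL : Lift) (h : okP l = true) : PwC DX (XR Y) := by
  intro i hi p hp hd
  have h1 := List.all_eq_true.1 (List.all_eq_true.1 h i (List.mem_range.2 hi)) p hp
  simp only [Bool.and_eq_true, Bool.or_eq_true, List.any_eq_true, beq_iff_eq, bne_iff_ne, ne_eq,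
    decide_eq_true_eq] at h1
  obtain ⟨ht, h2⟩ := h1.resolve_left (not_not.2 (Nat.mod_eq_zero_of_dvd hd))
  rcases h2 with ⟨⟨⟨rfl, h2⟩, h3⟩, h4⟩ | ⟨x, hx, ⟨h2, h3⟩, h4⟩
  · refine ⟨3, h4, ?_⟩
    rw [XR, XR, h2, h3, zpw (Y_z ht), zpw (Y_z ht), zmod z_cube (a := jx i * 3) (b := 0 * 3) (by omega)]
  · obtain ⟨k, h5, h6⟩ := (hl x hx).tg hL h4
    refine ⟨k, h5, h6.trans ?_⟩
    rw [XR, zpw (Y_z ht)]
    exact (hl x hx).toY ht h2 h3 _

/-- the codes of the roots of the images of the representatives of `Fi23` -/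
def fc : List ℕ := [0, 0x15c9, 0x3a, 0x1b, 0x49385cb746c4398756b8b3a64795, 0x5437bc657b346c6749385cb746c4398756b4, 0x147c536b4c3b7456,
  0x43, 0x13856bc784365873b4ca7b398c465478b656, 0x76c643b756cb734574, 0x147c536b4c3b7456, 0x1765,
  0xc4b378563487cb658383c74b56848c7365b3, 0x1a5b3986c47b58675459746a3b89, 0x156b874564c893b7a8b3a64795,
  0x13856bc784365873b4c4, 0x3856bc784365873b4c43, 0x457685b74c6893b5a8b3a64795,
  0x176c643b756cb73459734cb65834b679c589c4, 0x83c74b56848c7365b7, 0x175b6748bc5973468b3a647953,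
  0x457685b74c6893b5a643795cb8476b57b6578934c647bc583948b3a64795, 0x183c74b56848c7365b, 0x147c536b4c3b7456,
  0x176c643b756cb73456, 0x76c643b756cb73453856bc784365873b4c, 0x15437bc657b346c6783c74b56848c7365b,
  0x47c536b4c3b74566, 0x1b6578934c647bc58394a5b3986c47b5867544, 0x176c643b756cb73455,
  0x1b5637c84865b47c38a7b398c465478b65, 0x8b3a647956, 0x643795cb8476b5756b874564c893b7ac, 0x183c74b56848c7365b,
  0xc4b378563487cb65838b3a647955, 0xa7b398c465478b65, 0x1643795cb8476b5763, 0x3856bc784365873b4c,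
  0x13856bc784365873b4c3, 0x1643795cb8476b57, 0x1c985c976b43856bc43794, 0x49385cb746c4398756b6,
  0x49385cb746c4398756b3, 0x1c985c976b43856bc4379c, 0x13856bc784365873b4c6, 0xc4b378563487cb65838b3a647954,
  0x5437bc657b346c678b3a647955, 0x1c985c976b43856bc43796, 0x149385cb746c4398756b54, 0x47c536b4c3b74569,
  0x49385cb746c4398756bc, 0x147c536b4c3b7456, 0x49385cb746c4398756b4, 0x183c74b56848c7365bb6578934c647bc583943,
  0xc985c976b43856bc437975b6748bc597346a, 0x149385cb746c4398756b, 0xa5b3986c47b5867545, 0x643795cb8476b577,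
  0xc4b378563487cb6583a7b398c465478b65, 0x8b3a647953, 0x9734cb65834b679c589c457685b74c6893b5a3, 0x18b3a64795,
  0x8b3a647959, 0x83c74b56848c7365ba, 0x147c536b4c3b7456b6578934c647bc583943, 0x183c74b56848c7365b,
  0xc4b378563487cb6583c985c976b43856bc4379, 0x1c985c976b43856bc4379a5b3986c47b586754, 0x6547b3c4b635c748b3a64795,
  0x16547b3c4b635c74b6578934c647bc5839475b6748bc597346a7b398c465478b65, 0xa5b3986c47b5867543, 0x3856bc784365873b4c,
  0xc985c976b43856bc4379, 0x1c985c976b43856bc43793, 0x1643795cb8476b57, 0x1a5b3986c47b586754, 0x1a7b398c465478b655,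
  0x643795cb8476b576, 0x9734cb65834b679c589ca5b3986c47b5867547, 0x149385cb746c4398756b, 0xa7b398c465478b65,
  0x15437bc657b346c678b3a64795, 0x175b6748bc597346a7b398c465478b65, 0x8b3a647958, 0xa5b3986c47b5867544,
  0x1a5b3986c47b5867548b3a647953, 0xa5b3986c47b5867546, 0x19734cb65834b679c589ca7b398c465478b653,
  0xa5b3986c47b5867548, 0x1a7b398c465478b658, 0x8b3a64795c, 0x47c536b4c3b7456c]

theorem fc_eq : ∀ s < 92, dec 5000 (fc.getD s 0) = (F23C.wd (F23C.rc.getD s 0)).map emb ++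
    List.replicate ((F23C.wd (F23C.rc.getD s 0)).length % 2) .l := by decide +kernel

theorem psi_eq {psi : Fi23 →* P3} (h : IsPsi psi) {s : ℕ} (hs : s < 92) :
    psi (x23 s) = el3 (fc.getD s 0) ^ F23C.re.getD s 0 := by
  rw [x23, map_pow, F23C.el, Fischer.Fi23Orb.word, map_list_prod, List.map_map, el3, fc_eq s hs, List.map_append,
    List.prod_append, List.map_replicate, List.prod_replicate,
    (img_word (f := psi ∘ Fischer.Fi23Hom.gen) (g := y) h (fun v => rel3_P.comm_l _ (emb_ne_k v)) _).1]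
  have h1 : y .l ^ 2 = 1 := by rw [pow_two]; exact rel3_P.sq .l
  generalize (F23C.wd (F23C.rc.getD s 0)).length = n
  conv_lhs => rw [← Nat.div_add_mod n 2, pow_add, pow_mul, h1, one_pow, one_mul]

/-- the table of the field `fus` -/
noncomputable def okF (l : List Ct) : Bool := (List.range 92).all fun s =>
  l.any fun x => x.a == fc.getD s 0 && x.e == F23C.re.getD s 0 && x.tg 0 (fx0.getD s 0) && x.tg 1 (fx1.getD s 0)

theorem fus_of {l : List Ct} (hl : ∀ x ∈ l, x.Ok) (hL : Lift) (h : okF l = true) : ∀ psi, IsPsi psi → ∀ s < 92,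
    (∃ k, Nat.Coprime k (DX.ord (fx0.getD s 0)) ∧ IsConj (XR Y (fx0.getD s 0) ^ k) (psi (x23 s))) ∧
    ∃ k, Nat.Coprime k (DX.ord (fx1.getD s 0)) ∧ IsConj (XR Y (fx1.getD s 0) ^ k) (z17 * psi (x23 s)) := by
  intro psi hp s hs
  have h1 := List.all_eq_true.1 h s (List.mem_range.2 hs)
  simp only [Bool.and_eq_true, List.any_eq_true, beq_iff_eq] at h1
  obtain ⟨x, hx, ⟨⟨h1, h2⟩, h3⟩, h4⟩ := h1
  obtain ⟨k, h5, h6⟩ := (hl x hx).tg hL h3
  obtain ⟨m, h7, h8⟩ := (hl x hx).tg hL h4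
  have h9 := (hl x hx).2 0
  have h10 := (hl x hx).2 1
  rw [h1, h2, ← psi_eq hp hs] at h9 h10
  rw [pow_zero, one_mul] at h9
  rw [pow_one] at h10
  exact ⟨⟨k, h5, h6.trans h9⟩, m, h7, h8.trans h10⟩

end Cfsg.Agent.TAB.F24C.D
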