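import Cfsg.Agent.TAB.F24C.Ifc
import Cfsg.Agent.TAB.F24.G.Wd

/-!
# `3.Fi₂₄` : the representatives `Y t` of the 94 types (helper51, TAB)

`Y t = z ^ yz t * (word of the code yc t) ^ ye t`; the words and exponents are those of `notes/TAB/F24.txt`.
-/

set_option autoImplicit false
set_option maxRecDepth 100000

namespace Cfsg.Agent.TAB.F24C

open Cfsg.Agent.H843.Pat (dec)
open Cfsg.Agent.R08.TThree (P3 z17 z17_mem)
open Cfsg.Agent.H52.ThreeFi24 (q3)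
open Cfsg.Spor

/-- the codes of the roots -/
def yc : List ℕ := [0, 0x97b1, 0x1b, 0xb2ca19, 0xa291, 0xbc, 0xb42c15, 0x4b58697835b7a264c9157ba624c153, 0x3ac28691, 0x2a89, 0xb8ac69,
  0x8a97, 0x192ca7b5, 0xa682cb17, 0x5b972a61, 0xb86c71, 0xc97b15, 0xb52c4971, 0x1ac297, 0x5c642ab1, 0x79ca68, 0x129b,
  0x4b58697835b7a264c9157ba624c153, 0x346c5b, 0x65b1a462935ac42697b31684257b, 0xab5396847563b8a4c7, 0xb26c57,
  0xb793c62a81, 0x95c264ab31, 0x57b46813, 0x5b316423584175ac26, 0x756b7653c48b, 0x153264cb, 0x6c31b42c9531b46a8275,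
  0x78a1395b, 0x9a87b1, 0x75a6428139, 0x1b59c624a8, 0x5b2a8467, 0x268a75b319, 0x9b1ca862, 0x19c8a25b, 0x7568ca1b,
  0x6c4ab579, 0x9b17a46c25, 0x572c46b1, 0x1a82b9, 0x564c7b, 0x4b58697835b7a264c9157ba624c153, 0x96c485b7, 0x795c8a61,
  0x65b1a462935ac42697b31684257b, 0xb719c28a, 0x972a81, 0x51ca248b79, 0x261935842b7935c246a8395b48ac629137,
  0x7596a48b13, 0x7b158c2469753b8a6219, 0x5b316423584175ac26, 0x75b96841, 0xbcb9648cab5792c68ab5, 0x5b7926c8,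
  0x756b7653c48b, 0x6415374a8629b153, 0x9b5ac861, 0x5913682cab, 0x7b962a81, 0x8b74635c4b1736251c64a279,
  0x62b7318a4c27953b4c68a795, 0xba683b5964ca17, 0x968a5137942853b19c2468b19753, 0xa792648157c26a3b95, 0x971684ca2b,
  0xb5726c91, 0x6c813b7a6295386c4b79, 0x86b7ac69b1584625793b, 0xb4a68c3157, 0xb57268c317ba26c9b753a846,
  0x6c31b42c9531b46a8275, 0x957a648c1b, 0x76c857b264c915b482ac63, 0x37ca682419, 0x97a2c851, 0x9426ca815b37,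
  0xb92468a317, 0x597326a157b3964c82, 0x571962c83b, 0x837b952ca6197b5c8a6429, 0x5682c479b1,
  0xcb765b67876b987456789b65476587bcb65476587b657cb653456789b6547658cb654376548b65768bcb654a9876543b6547658cb6547658798b6576bcb6543723456789b6547687bcb65432765879bc,
  0xb42a86c93751b26ac475, 0x7b584c6297b35ac48691, 0x678c42753ba64975ca682b93, 0x3ba82c7915]

/-- the exponents -/
def ye : List ℕ := [1, 1, 1, 1, 1, 1, 1, 4, 1, 1, 1, 1, 1, 1, 1, 1, 1, 1, 1, 1, 1, 1, 2, 1, 2, 1, 1, 1, 1, 1, 2, 2, 1, 3, 1, 1, 1, 1,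
  1, 1, 1, 1, 1, 1, 1, 1, 1, 1, 1, 1, 1, 1, 1, 1, 1, 1, 1, 1, 1, 1, 1, 1, 1, 1, 1, 1, 1, 1, 1, 1, 1, 1, 1, 1, 1, 1, 1,
  1, 1, 1, 1, 1, 1, 1, 1, 1, 1, 1, 1, 1, 1, 1, 1, 1]

/-- the powers of `z` -/
def yz : List ℕ := [0, 0, 0, 0, 0, 0, 0, 0, 0, 0, 0, 0, 0, 0, 2, 0, 0, 0, 0, 0, 0, 0, 0, 0, 1, 0, 0, 0, 0, 0, 0, 0, 0, 0, 0, 0, 0, 0,
  0, 0, 0, 0, 0, 0, 2, 0, 0, 0, 0, 0, 0, 2, 0, 0, 0, 0, 0, 0, 0, 0, 0, 0, 0, 0, 0, 0, 0, 0, 0, 0, 0, 2, 0, 0, 0, 0, 0,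
  0, 0, 0, 1, 0, 0, 0, 0, 0, 0, 0, 0, 0, 0, 2, 0, 0]

/-- **the representatives** -/
noncomputable def Y (t : ℕ) : P3 := z17 ^ yz.getD t 0 * el3 (yc.getD t 0) ^ ye.getD t 0

theorem q3_Y (t : ℕ) : q3 (Y t) = el (yc.getD t 0) ^ ye.getD t 0 := by
  rw [Y, map_mul, map_pow, map_pow, q3_z, one_pow, one_mul, q3_el3]

theorem wT_eq : ∀ a ∈ cenT, dec 5000 (yc.getD a.1 0) = (F24.G.wT a.1).1 ∧ ye.getD a.1 0 = (F24.G.wT a.1).2 := by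
  decide +kernel

/-- the fixed point free representatives are those of `TAB.F24.G.Wd` -/
theorem q3_Y_wb : ∀ a ∈ cenT, q3 (Y a.1) = F24.G.wb a.1 := fun a ha => by
  rw [q3_Y, el, (wT_eq a ha).1, (wT_eq a ha).2, F24.G.wb]

end Cfsg.Agent.TAB.F24C
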