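import Cfsg.Agent.TAB.F24C.CF

/-!
# `Fi₂₄` : the centralizer of the type 83 (helper96, TAB; generated by notes/TAB/F24/gen96.cpp)
-/

set_option autoImplicit false
set_option maxRecDepth 100000
set_option Elab.async false

namespace Cfsg.Agent.TAB.F24C.E83

open Cfsg.Agent.TAB.PE Cfsg.Agent.TAB.CE
open Cfsg.Agent.Fischer.Fi24Rep (rho)
open Cfsg.Spor

/-- data -/
noncomputable def L : ℕ := 0x4a6d548852480a34628345839438463bdfb3742436635360d43608b314ba303e32f4c02dbe92dba32d01c2ccef2c33a2b4bd2a82a26739256bc23894233a820b451f3b31dec11a83b191a50ff2c0eec60ee1f0da400d8250d57d0d2830c97909ddc0984407ab20747503dba02cf3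

/-- data -/
noncomputable def X : ℕ := 0x902900502501d01102401601301701802302800102001b01a01500201901201001f01c00e01402201e02102600a00f00d00800c02a00400700600002700302b00b

theorem hi : Inj 44 L := inj_of (by decide +kernel)

theorem px_0 : tbB (ap 0x9426ca815b37 1) 44 L X [0, 1, 2, 3, 4, 5] = true := by decide +kernel

theorem hx : Tb rho 44 L (el 0x9426ca815b37 ^ 1) (gt X) :=
  tb_of (nb := 6) hi (acts 0x9426ca815b37 1)
    (Pl.app px_0 Pl.nil) (by decide +kernel)

/-- data -/
noncomputable def c0 : ℕ := 0xc6b6b56768579c683b5764b5c6b7c86b752645349586b7c86ab796857463b5c641b7538642b753864975a869b7c869b75a869b758649b753c864b758629b57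

/-- data -/
noncomputable def T0 : ℕ := 0xd02801801c00002900500900a02301d01901e02101100b02401700602b00701500802601201f01b00402a02701a01002000c00200e00301602201400f013025001

/-- data -/
noncomputable def U0 : ℕ := 0x1800f02602a00e01400101b02200501e00b01201f02102801100d02002901a00601600400201301d00c00300802b00a01c023024015017019025010007009000027

theorem k0 : cjB cx (apN (ap 0x9426ca815b37 1) 3) (apN (ap 0x9426ca815b37 1) 3) c0 = true := by decide +kernel

theorem p0_0 : tbB (aw c0) 44 L T0 [0, 1, 2, 3] = true := by decide +kernel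

theorem p0_1 : tbB (aw c0) 44 L T0 [4, 5] = true := by decide +kernel

theorem g0 : el c0 ∈ Subgroup.centralizer {(el 0x9426ca815b37 ^ 1) ^ 3} ∧ Tb rho 44 L (el c0) (gt T0) :=
  gen_ok (nb := 6) ((acts 0x9426ca815b37 1).pow 3) k0 hi
    (Pl.app p0_0 (Pl.app p0_1 Pl.nil)) (by decide +kernel)

theorem i0 : invB 44 T0 U0 = true := by decide +kernel

/-- data -/
noncomputable def c1 : ℕ := 0x756c3b46b57685764b5c6b7c6b5a28649753864b75c69b7c869b786a7985746b564753c8642b7531642753864b73c86291

/-- data -/
noncomputable def T1 : ℕ := 0x1701102400502502b02300c01000702000a00101802201901600801500600f00402700b01402801a02601c02901302a00901f00302101e01200201d00000e00d01b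

/-- data -/
noncomputable def U1 : ℕ := 0x2600c00e01201501002702902501d00802100a00700400f00001101c01e02b01b01901300d00602a02301700200102401402000b01a02201802801600900501f003

theorem k1 : cjB cx (apN (ap 0x9426ca815b37 1) 3) (apN (ap 0x9426ca815b37 1) 3) c1 = true := by decide +kernel

theorem p1_0 : tbB (aw c1) 44 L T1 [0, 1, 2, 3, 4] = true := by decide +kernel

theorem p1_1 : tbB (aw c1) 44 L T1 [5] = true := by decide +kernel

theorem g1 : el c1 ∈ Subgroup.centralizer {(el 0x9426ca815b37 ^ 1) ^ 3} ∧ Tb rho 44 L (el c1) (gt T1) :=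
  gen_ok (nb := 6) ((acts 0x9426ca815b37 1).pow 3) k1 hi
    (Pl.app p1_0 (Pl.app p1_1 Pl.nil)) (by decide +kernel)

theorem i1 : invB 44 T1 U1 = true := by decide +kernel

/-- words -/
noncomputable def ws : List ℕ := [0, 1, 2, 3]

theorem lv : levB 44 (fun i => i) (fun i => i) X 4 [T0, U0, T1, U1] [U0, T0, U1, T1] [0] ws 4 = true := by
  decide +kernel

theorem cen [Finite Fi24] (hy : Nat.card (Subgroup.centralizer ({(el 0x9426ca815b37 ^ 1) ^ 3} : Set Fi24)) ≤ 264) :
    Nat.card (Subgroup.centralizer ({el 0x9426ca815b37 ^ 1} : Set Fi24)) ≤ 66 :=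
  cen_one hi hx (.cons g0 (.cons (gen_inv g0 i0) (.cons g1 (.cons (gen_inv g1 i1) .nil)))) lv hy (by norm_num)

end Cfsg.Agent.TAB.F24C.E83
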